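import Groth.Agent.Lib.RatCyc12.UnionCurves
import Groth.Agent.Lib.H1Fib29.Global
import Groth.Agent.Lib.UnitsThick26.FlatIdeal
import Groth.Agent.Lib.CurveMult.GenusZero
import Groth.Agent.Lib.CurveMult.Point
import Groth.Agent.Lib.ExcDim29.Main
import Groth.Agent.Lib.Stein.Count

/-!
# The exceptional fibre of a rational surface singularity
-/

set_option autoImplicit false
set_option backward.isDefEq.respectTransparency false
set_option linter.all false
set_option maxHeartbeats 1000000

universe u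

open CategoryTheory CategoryTheory.Limits AlgebraicGeometry TopologicalSpace Opposite Abelian

noncomputable section

namespace GrothLib.RatTree12

variable {X Y : Scheme.{u}}

theorem subsingleton_H1_sub (φ : Y ⟶ X) [IsProper φ]
    (hd : ∀ s : X, topologicalKrullDim ↥(φ.base ⁻¹' ({s} : Set X)) ≤ 1)
    (hR : IsZero ((Coh.RpushAb φ 1).obj (Coh.toAb (Coh.structureModule Y))))
    {W : X.Opens} (hW : IsAffineOpen W) (D : Y.IdealSheafData) (hD : ∀ z ∈ (D.support : Set Y), φ z ∈ W) :
    Subsingleton (Coh.HH D.subscheme (Coh.structureModule D.subscheme) 1) := by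
  haveI := H1Fib29.isQuasicoherent_structure Y
  let P : Y.Opens := φ ⁻¹ᵁ W
  haveI : CompactSpace (P : Scheme.{u}) :=
    isCompact_iff_compactSpace.1 (φ.isCompact_preimage hW.isCompact)
  haveI : IsAffine (W : Scheme.{u}) := hW
  haveI : IsProper (φ ∣_ W) := IsZariskiLocalAtTarget.restrict ‹IsProper φ› W
  let f : (P : Scheme.{u}) ⟶ Spec Γ(X, W) := (φ ∣_ W) ≫ hW.isoSpec.hom
  haveI : IsProper f := inferInstanceAs (IsProper ((φ ∣_ W) ≫ hW.isoSpec.hom))
  haveI : QuasiSeparatedSpace (P : Scheme.{u}) := quasiSeparatedSpace_of_quasiSeparated f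
  have h2 : H1Fib29.Van2 (P : Scheme.{u}) := H1Fib29.van2_of_dim (A := Γ(X, W)) f fun y => by
    refine le_trans ?_ (hd (hW.fromSpec y))
    have hmem : ∀ t, φ.base (P.ι (f.fiberι y t)) ∈ ({hW.fromSpec y} : Set X) := fun t => by
      show φ (P.ι (f.fiberι y t)) = hW.fromSpec y
      have h2 : f (f.fiberι y t) = y := by
        have : (f.fiberι y t) ∈ Set.range (f.fiberι y) := Set.mem_range_self _
        rw [Scheme.Hom.range_fiberι] at this
        exact this
      rw [← Scheme.Hom.comp_apply, ← morphismRestrict_ι, Scheme.Hom.comp_apply]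
      generalize f.fiberι y t = w at h2 ⊢
      have h5 : hW.isoSpec.hom ((φ ∣_ W) w) = y := (Scheme.Hom.comp_apply _ _ w).symm.trans h2
      rw [← h5, ← Scheme.Hom.comp_apply hW.isoSpec.hom, IsAffineOpen.isoSpec_hom_fromSpec]
    exact (Topology.IsEmbedding.codRestrict
      (P.ι.isOpenEmbedding.isEmbedding.comp (f.fiberι y).isEmbedding) _ hmem).isInducing.topologicalKrullDim_le
  have h1 : H1Fib29.Van1 (P : Scheme.{u}) := by
    haveI := RLpsi8.FibreVanish.subsingleton_ext_of_isZero φ (Coh.structureModule Y) 1 hR hW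
    obtain ⟨e⟩ := Cohom.nonempty_HHon_equiv (Coh.structureModule Y) P 1
    exact (H1Fib29.van1_opens_iff _).2 e.toEquiv.subsingleton
  have hr : Set.range D.subschemeι ⊆ Set.range P.ι := by
    rw [D.range_subschemeι, Scheme.Opens.range_ι]
    exact fun z hz => hD z hz
  let i : D.subscheme ⟶ (P : Scheme.{u}) := IsOpenImmersion.lift P.ι D.subschemeι hr
  have hi : i ≫ P.ι = D.subschemeι := IsOpenImmersion.lift_fac _ _ _
  haveI : IsClosedImmersion (i ≫ P.ι) := by rw [hi]; infer_instance
  haveI : IsClosedImmersion i := .of_comp i P.ι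
  haveI := H1Fib29.isQuasicoherent_structure D.subscheme
  let F := (Scheme.Modules.pushforward i).obj (Coh.structureModule D.subscheme)
  haveI : F.IsQuasicoherent := QCoh.isQuasicoherent_pushforward i _
  haveI : Epi (ClSub.unitToPush i) := UnitsThick26.epi_unitToPush i
  let e : (∐ fun _ : PUnit.{u + 1} => Coh.structureModule (P : Scheme.{u})) ⟶ F :=
    Sigma.desc fun _ => ClSub.unitToPush i
  haveI : Epi e := by
    haveI : Epi (Sigma.ι (fun _ : PUnit.{u + 1} => Coh.structureModule (P : Scheme.{u})) PUnit.unit ≫ e) := by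
      rw [Sigma.ι_desc]; infer_instance
    exact epi_of_epi (Sigma.ι _ PUnit.unit) e
  haveI := H1Fib29.subsingleton_HH_of_epi h2 h1 F e
  obtain ⟨q⟩ := Cohom.nonempty_HH_equiv_pushforward i (Coh.structureModule D.subscheme) 1
  exact q.toEquiv.subsingleton

variable (k : Type u) [Field k]

/-- A curve of arithmetic genus zero over an algebraically closed field. -/
theorem nonempty_iso_P1 [IsAlgClosed k] (C : Scheme.{u}) [C.Over (Spec (CommRingCat.of k))] [IsIntegral C]
    [IsProper (C ↘ Spec (CommRingCat.of k))] (hd : topologicalKrullDim C = 1)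
    (hg : Subsingleton (Coh.HH C (Coh.structureModule C) 1)) : Nonempty (C ≅ CohB1.ProjSpace 1 k) := by
  haveI := Euler.isNoetherian_of_proper (X := C) k
  obtain ⟨x, hxη, hreg⟩ := CurveMult.exists_regular_point k hd
  obtain ⟨L, hL, hdeg, -⟩ := CurveMult.exists_point_bundle k hd.le hxη hreg
  obtain ⟨e, -⟩ := CurveMult.exists_iso_P1 k hd hg hL hdeg
  exact ⟨e⟩

/-- The union of the exceptional curves is the fibre. -/
theorem iUnion_support_eq_fibre (φ : Y ⟶ X) (x : X) (hxc : IsClosed ({x} : Set X))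
    (hZ : ∀ Z ∈ irreducibleComponents ↥(φ.base ⁻¹' ({x} : Set X)), topologicalKrullDim ↥Z = 1)
    {n : ℕ} (E : Fin n → Y.IdealSheafData) (hEpt : ∀ i, φ.base '' ((E i).support : Set Y) = {x})
    (hEall : ∀ F : Y.IdealSheafData, IsIntegral F.subscheme → topologicalKrullDim (F.support : Set Y) = 1 →
      φ.base '' (F.support : Set Y) = {x} → ∃ i, (F.support : Set Y) = (E i).support) :
    (⋃ i, ((E i).support : Set Y)) = φ.base ⁻¹' ({x} : Set X) := by
  refine Set.Subset.antisymm (Set.iUnion_subset fun i z hz => (hEpt i).subset ⟨z, hz, rfl⟩) fun p hp => ?_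
  let G : Set Y := φ.base ⁻¹' ({x} : Set X)
  let Z : Set ↥G := irreducibleComponent ⟨p, hp⟩
  have hZm : Z ∈ irreducibleComponents ↥G := irreducibleComponent_mem_irreducibleComponents _
  have hcl : IsClosed (Subtype.val '' Z) :=
    (hxc.preimage φ.continuous).isClosedEmbedding_subtypeVal.isClosedMap _ isClosed_irreducibleComponent
  obtain ⟨η, hη⟩ := QuasiSober.sober (isIrreducible_irreducibleComponent.image _ continuous_subtype_val.continuousOn) hcl
  have hs : ((HodgeIndex.curveIdeal η).support : Set Y) = Subtype.val '' Z :=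
    (Scheme.IdealSheafData.coe_support_vanishingIdeal _).trans hη.def
  have hd : topologicalKrullDim ((HodgeIndex.curveIdeal η).support : Set Y) = 1 := by
    rw [hs]
    exact ((IsHomeomorph.topologicalKrullDim_eq _
      (Topology.IsEmbedding.subtypeVal.homeomorphImage Z).isHomeomorph).symm.trans (hZ Z hZm))
  have himg : φ.base '' ((HodgeIndex.curveIdeal η).support : Set Y) = {x} := by
    rw [hs]
    refine Set.Subset.antisymm ?_ (Set.singleton_subset_iff.2 ⟨p, ⟨_, mem_irreducibleComponent, rfl⟩, hp⟩)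
    rintro _ ⟨_, ⟨⟨z, hz⟩, -, rfl⟩, rfl⟩
    exact hz
  obtain ⟨i, hi⟩ := hEall _ (Snapper.isIntegral_pt η) hd himg
  exact Set.mem_iUnion.2 ⟨i, hi ▸ hs.symm ▸ ⟨_, mem_irreducibleComponent, rfl⟩⟩

end GrothLib.RatTree12
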