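import Groth.Agent.Lib.RatTree12.Basic
import Groth.Agent.Lib.RatSing29.StalkR1
import Groth.Agent.Lib.SchImage.Reduced
import Groth.Agent.Lib.CurveMult.GenusZero

/-!
# Components of the fibre over a rational singularity
-/

set_option autoImplicit false
set_option backward.isDefEq.respectTransparency false
set_option linter.all false
set_option maxHeartbeats 1000000

universe u

open CategoryTheory CategoryTheory.Limits AlgebraicGeometry TopologicalSpace Opposite

noncomputable section

namespace GrothLib.RatTree12

theorem exists_lift_of_range_subset {C T S : Scheme.{u}} [IsReduced C] [IsReduced T] (h : C ⟶ S) (j : T ⟶ S)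
    [IsClosedImmersion j] (hr : Set.range h ⊆ Set.range j) : ∃ w : C ⟶ T, w ≫ j = h := by
  have hle : j.ker ≤ h.ker := by
    rw [SchImage.ker_eq_vanishingIdeal h, SchImage.ker_eq_vanishingIdeal j]
    exact Scheme.IdealSheafData.vanishingIdeal_antimono (closure_mono hr)
  exact ⟨IsClosedImmersion.lift j h hle, IsClosedImmersion.lift_fac _ _ _⟩

/-- The reduced structure on a closed subset of the fibre over a rational singularity is acyclic. -/
theorem subsingleton_H1_of_fibre {W Z : Scheme.{u}} [IsIntegral W] [IsIntegral Z] [IsNoetherian Z] (ρ : W ⟶ Z)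
    [IsProper ρ] (hWn : Pi1.IsNormalScheme W) (hbir : ∃ U : Z.Opens, (U : Set Z).Nonempty ∧ IsIso (ρ ∣_ U))
    (hdim : topologicalKrullDim Z ≤ 2) (hgen : ¬ IsClosed ({genericPoint Z} : Set Z))
    (y : Z) (hyc : IsClosed ({y} : Set Z)) (hrat : Curv2.IsRationalSing (Z.presheaf.stalk y))
    (D : W.IdealSheafData) [IsReduced D.subscheme] (hD : ∀ z ∈ (D.support : Set W), ρ z = y) :
    Subsingleton (Coh.HH D.subscheme (Coh.structureModule D.subscheme) 1) := by
  let Q : Scheme.{u} := pullback ρ (Z.fromSpecStalk y)
  let g : Q ⟶ W := pullback.fst ρ (Z.fromSpecStalk y)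
  let P : Q ⟶ Spec (CommRingCat.of (Z.presheaf.stalk y)) := pullback.snd ρ (Z.fromSpecStalk y)
  obtain ⟨hI, hN, hb⟩ := RatSing29.pullback_stalk_data ρ hWn hbir y
  haveI : IsIntegral Q := hI
  haveI : IsDomain (Z.presheaf.stalk y) := inferInstance
  haveI : IsProper P := MorphismProperty.pullback_snd ρ (Z.fromSpecStalk y) inferInstance
  haveI : IsPreimmersion g := MorphismProperty.pullback_fst ρ (Z.fromSpecStalk y) inferInstance
  have h1 : H1Fib29.Van1 Q := hrat Q P inferInstance hI hN hb
  have hne : IsLocalRing.closedPoint (Z.presheaf.stalk y) ≠ genericPoint (Spec (CommRingCat.of (Z.presheaf.stalk y))) := by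
    intro h0
    refine hgen ?_
    suffices h : genericPoint Z = y by rw [h]; exact hyc
    obtain ⟨q, hq⟩ : genericPoint Z ∈ Set.range (Z.fromSpecStalk y) := by
      rw [Scheme.range_fromSpecStalk]
      exact genericPoint_specializes y
    have h2 : genericPoint (Spec (Z.presheaf.stalk y)) ⤳ q := genericPoint_specializes q
    have h3 : y ⤳ genericPoint Z := by
      have h4 := h2.map (Z.fromSpecStalk y).continuous
      rw [hq, show genericPoint (Spec (Z.presheaf.stalk y)) = IsLocalRing.closedPoint (Z.presheaf.stalk y) from h0.symm,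
        Scheme.fromSpecStalk_closedPoint] at h4
      exact h4
    exact ((genericPoint_specializes y).antisymm h3).eq
  have h2 : H1Fib29.Van2 Q := H1Fib29.van2_of_dim (A := (Z.presheaf.stalk y : Type u)) P
    (fun s => RatSing29.dim_fiber_le_one_of_le (A := (Z.presheaf.stalk y : Type u)) P
      ((Z.fromSpecStalk y).isEmbedding.isInducing.topologicalKrullDim_le.trans hdim) hne hb s)
  haveI : CompactSpace Q := QuasiCompact.compactSpace_of_compactSpace P
  haveI : QuasiSeparatedSpace Q := quasiSeparatedSpace_of_quasiSeparated P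
  haveI : IsClosedImmersion (Z.fromSpecResidueField y) :=
    IsClosedImmersion.of_isPreimmersion _ (by rw [Scheme.range_fromSpecResidueField]; exact hyc)
  obtain ⟨w, hw⟩ := exists_lift_of_range_subset (D.subschemeι ≫ ρ) (Z.fromSpecResidueField y) (by
    rintro _ ⟨z, rfl⟩
    rw [Scheme.range_fromSpecResidueField, Set.mem_singleton_iff, Scheme.Hom.comp_apply]
    exact hD _ (D.range_subschemeι.subset ⟨z, rfl⟩))
  let i : D.subscheme ⟶ Q := pullback.lift D.subschemeι (w ≫ Spec.map (Z.residue y)) (by
    rw [Category.assoc]; exact hw.symm)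
  have hi : i ≫ g = D.subschemeι := pullback.lift_fst _ _ _
  haveI : IsClosedImmersion (i ≫ g) := by rw [hi]; infer_instance
  haveI : IsClosedImmersion i := .of_comp i g
  haveI := H1Fib29.isQuasicoherent_structure D.subscheme
  let F := (Scheme.Modules.pushforward i).obj (Coh.structureModule D.subscheme)
  haveI : F.IsQuasicoherent := QCoh.isQuasicoherent_pushforward i _
  haveI : Epi (ClSub.unitToPush i) := UnitsThick26.epi_unitToPush i
  let e : (∐ fun _ : PUnit.{u + 1} => Coh.structureModule Q) ⟶ F :=
    Sigma.desc fun _ => ClSub.unitToPush i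
  haveI : Epi e := by
    haveI : Epi (Sigma.ι (fun _ : PUnit.{u + 1} => Coh.structureModule Q) PUnit.unit ≫ e) := by
      rw [Sigma.ι_desc]; infer_instance
    exact epi_of_epi (Sigma.ι _ PUnit.unit) e
  haveI := H1Fib29.subsingleton_HH_of_epi h2 h1 F e
  obtain ⟨q⟩ := Cohom.nonempty_HH_equiv_pushforward i (Coh.structureModule D.subscheme) 1
  exact q.toEquiv.subsingleton

/-- An irreducible component of a connected space of dimension one has dimension one. -/
theorem dim_component {T : Type*} [TopologicalSpace T] [NoetherianSpace T] [QuasiSober T] [T0Space T]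
    [ConnectedSpace T] (hT : topologicalKrullDim T = 1) {Z : Set T} (hZ : Z ∈ irreducibleComponents T) :
    topologicalKrullDim ↥Z = 1 := by
  have hZc := isClosed_of_mem_irreducibleComponents Z hZ
  refine le_antisymm (hT ▸ hZc.isClosedEmbedding_subtypeVal.isEmbedding.isInducing.topologicalKrullDim_le) ?_
  have hns : ¬ Z.Subsingleton := by
    intro hs
    obtain ⟨p, hp⟩ := hZ.1.nonempty
    let R := ⋃ W ∈ irreducibleComponents T \ {Z}, W
    have hR : IsClosed R := ((NoetherianSpace.finite_irreducibleComponents (α := T)).subset Set.sdiff_subset).isClosed_biUnion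
      fun W hW => isClosed_of_mem_irreducibleComponents W hW.1
    have heq : Z = Rᶜ := by
      ext w
      simp only [Set.mem_compl_iff, R, Set.mem_iUnion, not_exists, Set.mem_sdiff, Set.mem_singleton_iff]
      constructor
      · intro hw W ⟨hW, hWne⟩ hwW
        have hsub : Z ⊆ W := fun a ha => hs hw ha ▸ hwW
        exact hWne ((hZ.2 hW.1 hsub).antisymm hsub)
      · intro h
        by_cases hWZ : irreducibleComponent w = Z
        · exact hWZ ▸ mem_irreducibleComponent
        · exact absurd mem_irreducibleComponent (h _ ⟨irreducibleComponent_mem_irreducibleComponents w, hWZ⟩)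
    have hclop : IsClopen Z := ⟨hZc, heq ▸ hR.isOpen_compl⟩
    have huniv : Z = Set.univ := hclop.eq_univ ⟨p, hp⟩
    haveI : Subsingleton T := ⟨fun a b => hs (huniv ▸ Set.mem_univ a) (huniv ▸ Set.mem_univ b)⟩
    have h0 : topologicalKrullDim T ≤ 0 := by
      haveI : Subsingleton (IrreducibleCloseds T) := ⟨fun A B => SetLike.coe_injective
        ((Subsingleton.eq_univ_of_nonempty A.isIrreducible.nonempty).trans
          (Subsingleton.eq_univ_of_nonempty B.isIrreducible.nonempty).symm)⟩
      exact Order.krullDim_nonpos_of_subsingleton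
    rw [hT] at h0
    exact absurd h0 (by decide)
  rw [Set.not_subsingleton_iff] at hns
  obtain ⟨a, ha, b, hb, hab⟩ := hns
  haveI : IrreducibleSpace Z := isIrreducible_iff_irreducibleSpace.1 hZ.1
  haveI : QuasiSober Z := hZc.isClosedEmbedding_subtypeVal.quasiSober
  obtain ⟨c, hc⟩ : ∃ c : Z, c ≠ genericPoint Z := by
    by_contra h
    push Not at h
    exact hab (congrArg Subtype.val ((h ⟨a, ha⟩).trans (h ⟨b, hb⟩).symm))
  let A : IrreducibleCloseds Z := ⟨closure {c}, isIrreducible_singleton.closure, isClosed_closure⟩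
  let B : IrreducibleCloseds Z := ⟨Set.univ, IrreducibleSpace.isIrreducible_univ Z, isClosed_univ⟩
  have hlt : A < B := lt_of_le_of_ne (fun _ _ => trivial) fun h => hc
    (IsGenericPoint.eq (congrArg (fun S : IrreducibleCloseds Z => (S : Set Z)) h) (genericPoint_spec Z))
  exact Order.LTSeries.length_le_krullDim ((RelSeries.singleton _ A).snoc B hlt)

end GrothLib.RatTree12
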