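import Groth.Agent.Lib.RatTree12.Basic
import Groth.Agent.Lib.CurveMult.RelNef
import Groth.Agent.Lib.IdealMul9.Hom
import Groth.Agent.Lib.UnivThick.FOT
import Groth.Agent.Lib.HodgeIndex.Curves
import Groth.Agent.Lib.CI20.Induction

/-!
# Vanishing of `R¹` from vanishing on exceptional divisors
-/

set_option autoImplicit false
set_option backward.isDefEq.respectTransparency false
set_option linter.all false
set_option maxHeartbeats 1000000

universe u

open CategoryTheory CategoryTheory.Limits AlgebraicGeometry TopologicalSpace Opposite Abelian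

noncomputable section

namespace GrothLib.RatTree12

variable {X Y : Scheme.{u}}

theorem comap_pow' (I : Y.IdealSheafData) (g : X ⟶ Y) : ∀ k : ℕ, (I ^ k).comap g = (I.comap g) ^ k
  | 0 => by rw [pow_zero, pow_zero, Scheme.IdealSheafData.one_eq_top, Scheme.IdealSheafData.one_eq_top]; simp
  | k + 1 => by rw [pow_succ, pow_succ, UnivThick.comap_mul, comap_pow' I g k]

theorem support_pow_subset (I : Y.IdealSheafData) : ∀ k : ℕ, ((I ^ k).support : Set Y) ⊆ (I.support : Set Y)
  | 0 => by rw [pow_zero, Scheme.IdealSheafData.one_eq_top, Scheme.IdealSheafData.support_top]; exact Set.empty_subset _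
  | k + 1 => by
    rw [pow_succ, Scheme.IdealSheafData.support_mul]
    exact Set.union_subset (support_pow_subset I k) (Set.Subset.refl _)

theorem isEffCartierIdeal_pow {I : Y.IdealSheafData} (h : _root_.BlowUp.IsEffCartierIdeal I) :
    ∀ k : ℕ, _root_.BlowUp.IsEffCartierIdeal (I ^ k)
  | 0 => by rw [pow_zero, Scheme.IdealSheafData.one_eq_top]; exact BlowUp.isEffCartierIdeal_top
  | k + 1 => by rw [pow_succ]; exact BlowUp.isEffCartierIdeal_mul (isEffCartierIdeal_pow h k) h

/-- An effective Cartier divisor on a regular surface with support a given set of curves. -/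
theorem exists_divisor [IsNoetherian Y] [IsIntegral Y] (hdimY : topologicalKrullDim Y = 2)
    (hreg : ∀ y : Y, IsRegularLocalRing (Y.presheaf.stalk y)) (G : Set Y) (hG : IsClosed G)
    (hZ : ∀ Z ∈ irreducibleComponents ↥G, topologicalKrullDim ↥Z = 1) :
    ∃ W : Y.IdealSheafData, _root_.BlowUp.IsEffCartierIdeal W ∧ (W.support : Set Y) = G := by
  classical
  have hfin := NoetherianSpace.finite_irreducibleComponents (α := ↥G)
  have hC : ∀ Z ∈ irreducibleComponents ↥G, ∃ C : Y.IdealSheafData,
      _root_.BlowUp.IsEffCartierIdeal C ∧ (C.support : Set Y) = Subtype.val '' Z := by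
    intro Z hZm
    have hcl : IsClosed (Subtype.val '' Z) :=
      hG.isClosedEmbedding_subtypeVal.isClosedMap _ (isClosed_of_mem_irreducibleComponents Z hZm)
    obtain ⟨η, hη⟩ := QuasiSober.sober (hZm.1.image _ continuous_subtype_val.continuousOn) hcl
    have hs : ((HodgeIndex.curveIdeal η).support : Set Y) = Subtype.val '' Z :=
      (Scheme.IdealSheafData.coe_support_vanishingIdeal _).trans hη.def
    have hd : topologicalKrullDim ((HodgeIndex.curveIdeal η).support : Set Y) = 1 := by
      rw [hs]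
      exact ((IsHomeomorph.topologicalKrullDim_eq _
        (Topology.IsEmbedding.subtypeVal.homeomorphImage Z).isHomeomorph).symm.trans (hZ Z hZm))
    haveI : IsIntegral (HodgeIndex.curveIdeal η).subscheme := Snapper.isIntegral_pt η
    refine ⟨_, HodgeIndex.isEffCartier_curve hdimY hreg _ ?_, hs⟩
    show topologicalKrullDim _ = _
    rw [QCoh.closure_singleton_eq_range (HodgeIndex.curveIdeal η).subschemeι,
      (HodgeIndex.curveIdeal η).range_subschemeι, hd]
    rfl
  have key : ∀ s : Finset (Set ↥G), (∀ Z ∈ s, Z ∈ irreducibleComponents ↥G) → ∃ W : Y.IdealSheafData,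
      _root_.BlowUp.IsEffCartierIdeal W ∧ (W.support : Set Y) = ⋃ Z ∈ s, Subtype.val '' Z := by
    intro s
    induction s using Finset.induction with
    | empty => exact fun _ => ⟨⊤, BlowUp.isEffCartierIdeal_top, by simp⟩
    | @insert a s ha ih =>
      intro h
      obtain ⟨W, hW, hWs⟩ := ih fun Z hZ => h Z (Finset.mem_insert_of_mem hZ)
      obtain ⟨C, hC', hCs⟩ := hC a (h a (Finset.mem_insert_self _ _))
      exact ⟨C * W, BlowUp.isEffCartierIdeal_mul hC' hW,
        by rw [Scheme.IdealSheafData.support_mul]; simp [hWs, hCs]⟩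
  obtain ⟨W, hW, hWs⟩ := key hfin.toFinset fun Z hZ => hfin.mem_toFinset.1 hZ
  refine ⟨W, hW, hWs.trans (Set.Subset.antisymm (Set.iUnion₂_subset fun Z _ => ?_) fun p hp => ?_)⟩
  · rintro _ ⟨z, -, rfl⟩; exact z.2
  · exact Set.mem_iUnion₂.2 ⟨irreducibleComponent ⟨p, hp⟩,
      hfin.mem_toFinset.2 (irreducibleComponent_mem_irreducibleComponents _), ⟨p, hp⟩, mem_irreducibleComponent, rfl⟩

/-- `R¹ = 0` if `H¹` vanishes on the multiples of a divisor supported on the exceptional fibre. -/
theorem isZero_R1_of_divisor (φ : Y ⟶ X) [IsProper φ] [IsNoetherian X] (P : X)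
    (hd : ∀ s : X, topologicalKrullDim ↥(φ.base ⁻¹' ({s} : Set X)) ≤ 1)
    (hss : ∀ s : X, s ≠ P → (φ.base ⁻¹' ({s} : Set X)).Subsingleton)
    (D : Y.IdealSheafData) (hD : (D.support : Set Y) = φ.base ⁻¹' ({P} : Set X))
    (h1 : ∀ k : ℕ, Subsingleton (Coh.HH (D ^ k).subscheme (Coh.structureModule (D ^ k).subscheme) 1)) :
    IsZero ((Coh.RpushAb φ 1).obj (Coh.toAb (Coh.structureModule Y))) := by
  haveI := H1Fib29.isQuasicoherent_structure Y
  refine RelVanish.isZero_RpushAb_of_cover φ (Coh.structureModule Y) 1 (fun W : X.affineOpens => W.1) (fun W => W.2)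
    (fun x => by
      obtain ⟨W, hW, hx, -⟩ := exists_isAffineOpen_mem_and_subset (show x ∈ (⊤ : X.Opens) from trivial)
      exact ⟨⟨W, hW⟩, hx⟩) fun W' => ?_
  obtain ⟨W, hW⟩ := W'
  let O := φ ⁻¹ᵁ W
  haveI : IsAffine (W : Scheme.{u}) := hW
  haveI : IsProper (φ ∣_ W) := IsZariskiLocalAtTarget.restrict ‹IsProper φ› W
  haveI : IsNoetherianRing Γ(X, W) := IsLocallyNoetherian.component_noetherian ⟨W, hW⟩
  let f : (O : Scheme.{u}) ⟶ Spec Γ(X, W) := (φ ∣_ W) ≫ hW.isoSpec.hom
  letI : (O : Scheme.{u}).Over (Spec (CommRingCat.of Γ(X, W))) := ⟨f⟩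
  haveI : IsProper ((O : Scheme.{u}) ↘ Spec (CommRingCat.of Γ(X, W))) :=
    inferInstanceAs (IsProper ((φ ∣_ W) ≫ hW.isoSpec.hom))
  haveI : IsProper f := inferInstanceAs (IsProper ((φ ∣_ W) ≫ hW.isoSpec.hom))
  haveI : IsLocallyNoetherian (O : Scheme.{u}) := LocallyOfFiniteType.isLocallyNoetherian f
  haveI : CompactSpace (O : Scheme.{u}) := QuasiCompact.compactSpace_of_compactSpace f
  haveI : IsNoetherian (O : Scheme.{u}) := {}
  have himg : ∀ z : (O : Scheme.{u}), φ.base (O.ι z) = hW.fromSpec (f z) := fun z => by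
    show φ (O.ι z) = hW.fromSpec (hW.isoSpec.hom ((φ ∣_ W) z))
    rw [← Scheme.Hom.comp_apply hW.isoSpec.hom, IsAffineOpen.isoSpec_hom_fromSpec, ← Scheme.Hom.comp_apply,
      ← morphismRestrict_ι, Scheme.Hom.comp_apply]
  have hfib : ∀ y, topologicalKrullDim ↥(f.fiber y) ≤ 1 := fun y => by
    refine le_trans ?_ (hd (hW.fromSpec y))
    have hmem : ∀ t, φ.base (O.ι (f.fiberι y t)) ∈ ({hW.fromSpec y} : Set X) := fun t => by
      have : (f.fiberι y t) ∈ Set.range (f.fiberι y) := Set.mem_range_self _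
      rw [Scheme.Hom.range_fiberι] at this
      exact (himg _).trans (congrArg _ this)
    exact (Topology.IsEmbedding.codRestrict
      (O.ι.isOpenEmbedding.isEmbedding.comp (f.fiberι y).isEmbedding) _ hmem).isInducing.topologicalKrullDim_le
  have hOc : Coh.IsCoh (Coh.structureModule (O : Scheme.{u})) :=
    Euler.isCoh_of_isInvertible Euler.isInvertible_structure
  suffices h : H1Fib29.Van1 (O : Scheme.{u}) by
    haveI := (H1Fib29.van1_opens_iff _).1 h
    obtain ⟨e⟩ := Cohom.nonempty_HHon_equiv (Coh.structureModule Y) O 1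
    exact e.symm.toEquiv.subsingleton
  haveI := ProjCoh.moduleFinite_HH Γ(X, W) (Coh.structureModule (O : Scheme.{u})) hOc 1
  refine CurveMult.RelNef.eq_zero_of_smul_maximal_eq_top (A := Γ(X, W)) fun m hm => ?_
  obtain ⟨e⟩ := FormalFn.formal_functions (I := m) (M := Coh.structureModule (O : Scheme.{u})) (p := 1) hOc
  suffices hlvl : ∀ n, Subsingleton (Formal.HHmodPow m (Coh.structureModule (O : Scheme.{u})) 1 n) by
    haveI hlim : Subsingleton (Formal.HHlim m (Coh.structureModule (O : Scheme.{u})) 1) :=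
      ⟨fun a b => Subtype.ext (funext fun n => @Subsingleton.elim _ (hlvl n) _ _)⟩
    exact GrothLib.AdicFS.subsingleton_adicCompletion_iff.1 e.toEquiv.subsingleton
  intro n
  let y : ↥(Spec (CommRingCat.of Γ(X, W))) := ⟨m, hm.isPrime⟩
  have hy : IsClosed ({y} : Set _) := (PrimeSpectrum.isClosed_singleton_iff_isMaximal y).2 hm
  let M := Formal.modPow m (n + 1) (Coh.structureModule (O : Scheme.{u}))
  let π : Coh.structureModule (O : Scheme.{u}) ⟶ M := Formal.modPowπ m (n + 1) _
  have hst : ∀ z : (O : Scheme.{u}), f z ≠ y → Subsingleton (M.presheaf.stalk z) := fun z hxP => by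
    obtain ⟨a, ha, hax⟩ : ∃ a ∈ m, a ∉ (f z).asIdeal := by
      by_contra hne
      refine hxP (PrimeSpectrum.ext ?_)
      refine (hm.eq_of_le (f z).isPrime.ne_top fun a ha => by_contra fun h => hne ⟨a, ha, h⟩).symm
    exact GVanish.subsingleton_stalk_of_killedBy
      ((FormalSys.IsQuot.modPowπ m (n + 1) (Coh.structureModule (O : Scheme.{u}))).killedBy)
      (x := z) (Ideal.pow_mem_pow ha (n + 1)) (fun h => hax ((f z).isPrime.mem_of_pow_mem _ h))
  by_cases hP : hW.fromSpec y = P
  swap
  · haveI : NoetherianSpace (O : Scheme.{u}) := inferInstance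
    haveI : NoetherianSpace (TopCat.of ↥(f ⁻¹' {y}) : TopCat.{u}) :=
      inferInstanceAs (NoetherianSpace ↥(f ⁻¹' {y}))
    haveI : Subsingleton ↥(f ⁻¹' {y}) := ⟨fun a b => Subtype.ext (O.ι.isOpenEmbedding.injective
      (hss _ hP ((himg a.1).trans (congrArg _ a.2)) ((himg b.1).trans (congrArg _ b.2))))⟩
    haveI : Subsingleton (IrreducibleCloseds ↥(f ⁻¹' {y})) := ⟨fun A B => SetLike.coe_injective
      ((Subsingleton.eq_univ_of_nonempty A.isIrreducible.nonempty).trans
        (Subsingleton.eq_univ_of_nonempty B.isIrreducible.nonempty).symm)⟩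
    refine GVanish.subsingleton_H_of_closedEmbedding (Z := TopCat.of ↥(f ⁻¹' {y})) (X := (O : Scheme.{u}).toTopCat)
      (TopCat.ofHom ⟨Subtype.val, continuous_subtype_val⟩)
      ((hy.preimage f.continuous).isClosedEmbedding_subtypeVal) 0
      (Order.krullDim_nonpos_of_subsingleton.trans (by norm_num)) _ (fun x hx => ?_) 1 one_pos
    exact @AddCommGrpCat.isZero_of_subsingleton _ (hst x fun he => hx ⟨⟨x, he⟩, rfl⟩)
  have hMc : Coh.IsCoh M := FormalFun.isCoh_modPow m (n + 1) hOc
  haveI := hMc.1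
  let I := D.comap O.ι
  let U : (O : Scheme.{u}).Opens := ⟨(I.support : Set _)ᶜ, I.support.isClosed.isOpen_compl⟩
  have hU : ∀ z, z ∈ U → f z ≠ y := fun z hz he => by
    refine hz ?_
    show z ∈ (I.support : Set _)
    rw [Scheme.IdealSheafData.support_comap, Closeds.coe_preimage, hD]
    exact ((himg z).trans (congrArg _ he)).trans hP
  have hπU : (Scheme.Modules.restrictFunctor U.ι).map π = 0 := by
    refine Scheme.Modules.hom_ext _ _ fun V => ConcreteCategory.hom_ext _ _ fun s => ?_
    show π.app (U.ι ''ᵁ V) s = 0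
    refine TopCat.Presheaf.section_ext (Coh.toAb M) (U.ι ''ᵁ V) _ _ fun z hz => ?_
    exact @Subsingleton.elim _ (hst z (hU z ((U.ι_image_le V) hz))) _ _
  obtain ⟨κ, hκ, C, hC⟩ := IdealMul9.exists_finite_cover (O : Scheme.{u})
  obtain ⟨k, hk⟩ := IdealMul9.exists_pow_kills hOc hMc.1 I U rfl π hπU C
  let E := I ^ k
  have hker : ClSub.idealModι E ≫ π = 0 := by
    haveI : (ClSub.idealMod E).IsQuasicoherent :=
      (QCoh.isCoh_kernel (ClSub.toSubscheme E) hOc (QCoh.pushUnit_isCoh E.subschemeι)).1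
    refine FunMor20.hom_ext_affine_cover (fun i => (C i).1) (fun i => (C i).2) hC fun i s => ?_
    let r : Γ((O : Scheme.{u}), (C i).1) := (ClSub.idealModι E).app (C i).1 s
    have hr : r ∈ E.ideal (C i) := by
      rw [← E.ker_subschemeι_app (C i), RingHom.mem_ker]
      show (ClSub.idealModι E ≫ ClSub.toSubscheme E).app (C i).1 s = 0
      rw [show ClSub.idealModι E ≫ ClSub.toSubscheme E = 0 from kernel.condition _]
      rfl
    rw [show E.ideal (C i) = I.ideal (C i) ^ k by simp only [E, Scheme.IdealSheafData.ideal_pow, Pi.pow_apply]] at hr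
    show π.app (C i).1 r = 0
    have h := hk i r hr (show Γ(Coh.structureModule (O : Scheme.{u}), (C i).1) from (1 : Γ((O : Scheme.{u}), (C i).1)))
    rw [← Scheme.Modules.Hom.app_smul] at h
    rw [← h]
    exact congrArg (π.app (C i).1) (mul_one r).symm
  haveI := Euler.epi_toSubscheme E
  let S := ShortComplex.mk (ClSub.idealModι E) (ClSub.toSubscheme E) (kernel.condition _)
  have hS : S.Exact := ShortComplex.exact_of_f_is_kernel _ (kernelIsKernel _)
  haveI : Epi S.g := Euler.epi_toSubscheme E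
  let q : ClSub.quotMod E ⟶ M := hS.desc π hker
  have hq : ClSub.toSubscheme E ≫ q = π := hS.g_desc π hker
  haveI : Epi π := inferInstanceAs (Epi (cokernel.π _))
  haveI : Epi q := by
    haveI : Epi (ClSub.toSubscheme E ≫ q) := by rw [hq]; infer_instance
    exact epi_of_epi (ClSub.toSubscheme E) q
  have hsurj := CurveMult.RelNef.surjective_H1_of_epi (A := Γ(X, W)) hfib (QCoh.pushUnit_isCoh E.subschemeι) hMc q
  haveI : Subsingleton (Coh.HH (O : Scheme.{u}) (ClSub.quotMod E) 1) := by
    haveI := H1Fib29.isQuasicoherent_structure (D ^ k).subscheme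
    have hr : Set.range (D ^ k).subschemeι ⊆ Set.range O.ι := by
      rw [(D ^ k).range_subschemeι, Scheme.Opens.range_ι]
      intro z hz
      have hzD : z ∈ (D.support : Set Y) := support_pow_subset D k hz
      rw [hD] at hzD
      show φ.base z ∈ W
      rw [Set.mem_singleton_iff.1 hzD, ← hP, ← SetLike.mem_coe, ← hW.range_fromSpec]
      exact ⟨y, rfl⟩
    let i : (D ^ k).subscheme ⟶ (O : Scheme.{u}) := IsOpenImmersion.lift O.ι (D ^ k).subschemeι hr
    have hi : i ≫ O.ι = (D ^ k).subschemeι := IsOpenImmersion.lift_fac _ _ _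
    have hsq : IsPullback i (𝟙 _) O.ι (D ^ k).subschemeι :=
      IsPullback.of_vert_isIso_mono ⟨by rw [Category.id_comp, hi]⟩
    have hE : E = i.ker := by
      show (D.comap O.ι) ^ k = _
      rw [← comap_pow', Scheme.IdealSheafData.comap, ← hsq.isoPullback_hom_fst, Scheme.Hom.ker_comp_of_isIso]
    haveI : IsClosedImmersion (i ≫ O.ι) := by rw [hi]; infer_instance
    haveI : IsClosedImmersion i := .of_comp i O.ι
    haveI := h1 k
    haveI : Subsingleton (Coh.HH i.ker.subscheme (Coh.structureModule i.ker.subscheme) 1) := by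
      haveI : IsIso i.toImage := inferInstance
      obtain ⟨a⟩ := Cohom.nonempty_HH_equiv_pushforward i.toImage (Coh.structureModule (D ^ k).subscheme) 1
      obtain ⟨b⟩ : Nonempty ((Scheme.Modules.pushforward i.toImage).obj (Coh.structureModule (D ^ k).subscheme) ≅
          Coh.structureModule i.ker.subscheme) := ⟨(@asIso _ _ _ _ (ClSub.unitToPush i.toImage) (CI20.isIso_unitToPush _)).symm⟩
      haveI := a.symm.toEquiv.subsingleton
      letI : i.ker.subscheme.Over (Spec (CommRingCat.of Γ(X, W))) := ⟨i.ker.subschemeι ≫ f⟩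
      exact (Euler.hhEquiv (A := Γ(X, W)) b 1).symm.injective.subsingleton
    rw [hE]
    haveI := H1Fib29.isQuasicoherent_structure i.ker.subscheme
    obtain ⟨c⟩ := Cohom.nonempty_HH_equiv_pushforward i.ker.subschemeι (Coh.structureModule i.ker.subscheme) 1
    exact c.symm.toEquiv.subsingleton
  exact hsurj.subsingleton

end GrothLib.RatTree12
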